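import Cfsg.Agent.H925.Rs.Elt
import Cfsg.Agent.H150.Rs.Hyp

/-!
# S3691, `PSp₁₂(q)`: the factor preserving a quadratic extension field (helper150, for helper925)

* `six`
-/

set_option autoImplicit false
set_option linter.unusedSectionVars false

namespace Cfsg.Agent.H150.Rs

open Module Polynomial Cfsg.Agent.H925.Rs Cfsg.Agent.H884.El Cfsg.Agent.H449.Reg

universe u v w

section

variable {F : Type u} [Field F] {V : Type v} [AddCommGroup V] [Module F V] {V' : Type w} [AddCommGroup V'] [Module F V']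

theorem finrank_ker_conj (φ : V ≃ₗ[F] V') (a : End F V') (P : F[X]) :
    finrank F (LinearMap.ker (aeval ((φ.symm : V' →ₗ[F] V) ∘ₗ a ∘ₗ (φ : V →ₗ[F] V')) P)) =
      finrank F (LinearMap.ker (aeval a P)) := by
  have h1 : ∀ x, aeval ((φ.symm : V' →ₗ[F] V) ∘ₗ a ∘ₗ (φ : V →ₗ[F] V')) P x = φ.symm (aeval a P (φ x)) := by
    intro x
    induction P using Polynomial.induction_on' with
    | add p q hp hq => rw [map_add, map_add, LinearMap.add_apply, LinearMap.add_apply, hp, hq, map_add]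
    | monomial n c =>
      have h2 : ∀ x, (((φ.symm : V' →ₗ[F] V) ∘ₗ a ∘ₗ (φ : V →ₗ[F] V')) ^ n) x = φ.symm ((a ^ n) (φ x)) := by
        intro x
        induction n generalizing x with
        | zero => rw [pow_zero, pow_zero]; exact (φ.symm_apply_apply x).symm
        | succ n ih =>
          rw [pow_succ, pow_succ, Module.End.mul_apply, ih]
          change φ.symm ((a ^ n) (φ (φ.symm (a (φ x))))) = _
          rw [φ.apply_symm_apply]
          rfl
      rw [aeval_monomial, aeval_monomial, ← Algebra.smul_def, ← Algebra.smul_def, LinearMap.smul_apply,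
        LinearMap.smul_apply, h2, map_smul]
  have h2 : LinearMap.ker (aeval ((φ.symm : V' →ₗ[F] V) ∘ₗ a ∘ₗ (φ : V →ₗ[F] V')) P) =
      (LinearMap.ker (aeval a P)).comap (φ : V →ₗ[F] V') := by
    ext x
    rw [Submodule.mem_comap, LinearMap.mem_ker, LinearMap.mem_ker, h1]
    exact φ.symm.map_eq_zero_iff
  rw [h2, Submodule.comap_equiv_eq_map_symm]
  exact LinearEquiv.finrank_map_eq φ.symm _

end

theorem exists_t {p f : ℕ} (hp : p.Prime) (hf : 1 ≤ f) (hq : 2 < p ^ f) :
    ∃ t, PP (p ^ f) 3 t ∧ ¬ t ∣ f := by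
  by_cases h4 : p = 2 ∧ f = 2
  · obtain ⟨rfl, rfl⟩ := h4
    refine ⟨7, ⟨by norm_num, ?_⟩, by norm_num⟩
    have : Fact (Nat.Prime 3) := ⟨Nat.prime_three⟩
    exact orderOf_eq_prime (by decide) (by decide)
  obtain ⟨t, ht, h1, h2, -⟩ := Cfsg.Agent.Lib.Zsigmondy.exists_primitive (a := p) (n := 3 * f) hp.two_le (by omega)
    (by omega) (by
      rintro ⟨rfl, h⟩
      exact h4 ⟨rfl, by omega⟩)
  refine ⟨t, ⟨ht, ?_⟩, ?_⟩
  · have := Fact.mk ht
    push_cast
    have h3 : orderOf (p : ZMod t) = 3 * f := by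
      apply Nat.dvd_antisymm
      · rw [← Cfsg.Agent.Lib.Zsigmondy.dvd_pow_sub_one_iff hp.one_le]
        exact (h1 _).2 dvd_rfl
      · rw [← h1, Cfsg.Agent.Lib.Zsigmondy.dvd_pow_sub_one_iff hp.one_le]
    rw [orderOf_pow_of_dvd (by omega) (by rw [h3]; exact dvd_mul_left _ _), h3, Nat.mul_div_cancel _ (by omega)]
  · intro h
    have h3 := Nat.le_of_dvd (by have := ht.two_le; omega) h2
    have h4 := Nat.le_of_dvd (by omega) h
    omega

/-- a subgroup with the full `t`-part contains a conjugate of every `t`-element -/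
theorem exists_conj_mem {G : Type*} [Group G] [Finite G] {t : ℕ} [ht : Fact t.Prime] {A I : Subgroup G} (hA : A ≤ I)
    (hv : (Nat.card A).factorization t = (Nat.card I).factorization t) {z : G} (hz : z ∈ I) (hzt : z ^ t = 1) :
    ∃ g ∈ I, g * z * g⁻¹ ∈ A := by
  obtain ⟨S⟩ : Nonempty (Sylow t A) := inferInstance
  have hS : Nat.card ((S : Subgroup A).map A.subtype) = t ^ (Nat.card I).factorization t := by
    rw [Subgroup.card_map_of_injective A.subtype_injective, S.card_eq_multiplicity, hv]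
  have hle : (S : Subgroup A).map A.subtype ≤ A := by
    rintro _ ⟨x, -, rfl⟩
    exact x.2
  have hc : Nat.card (((S : Subgroup A).map A.subtype).subgroupOf I) = t ^ (Nat.card I).factorization t := by
    rw [Nat.card_congr (Subgroup.subgroupOfEquivOfLe (hle.trans hA)).toEquiv, hS]
  let S' : Sylow t I := Sylow.ofCard _ hc
  have hpz : IsPGroup t (Subgroup.zpowers (⟨z, hz⟩ : I)) := by
    rw [IsPGroup.iff_card]
    have h1 : Nat.card (Subgroup.zpowers (⟨z, hz⟩ : I)) ∣ t := by
      rw [Nat.card_zpowers, orderOf_dvd_iff_pow_eq_one]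
      exact Subtype.ext hzt
    rcases (Nat.dvd_prime ht.out).1 h1 with h | h
    · exact ⟨0, by rw [h, pow_zero]⟩
    · exact ⟨1, by rw [h, pow_one]⟩
  obtain ⟨Q, hQ⟩ := hpz.exists_le_sylow
  obtain ⟨g, hg⟩ := MulAction.exists_smul_eq I Q S'
  refine ⟨g, g.2, ?_⟩
  have h1 : (⟨z, hz⟩ : I) ∈ (Q : Subgroup I) := hQ (Subgroup.mem_zpowers _)
  have h2 : g * ⟨z, hz⟩ * g⁻¹ ∈ (S' : Subgroup I) := by
    rw [← hg, Sylow.coe_subgroup_smul]
    exact Subgroup.smul_mem_pointwise_smul _ (MulAut.conj g) _ h1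
  exact hle h2

section

variable {F : Type u} [Field F] {V : Type v} [AddCommGroup V] [Module F V] {B : LinearMap.BilinForm F V} {p f : ℕ}
  {A C : Subgroup (V ≃ₗ[F] V)}

/-- **The residual case of dimension `12`.** -/
theorem six (P : Pair B p f 6 A C) (hq : 2 < p ^ f) (hA : AExt 2 A)
    (hC : ∀ c ∈ C, ∀ t, PP (Nat.card F) 3 t → c ^ t = 1 → c = 1) : False := by
  have hFf : Finite F := Nat.finite_of_card_ne_zero (by rw [P.card]; omega)
  have := Fintype.ofFinite F
  have hfd : FiniteDimensional F V := .of_finrank_pos (by rw [P.dim]; norm_num)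
  have hVf : Finite V := Module.finite_of_finite F
  have hGf : Finite (V ≃ₗ[F] V) :=
    Finite.of_injective (fun g : V ≃ₗ[F] V => (g : V → V)) DFunLike.coe_injective
  obtain ⟨t, ht, htf⟩ := exists_t P.prime P.hf hq
  rw [← P.card] at ht
  have := Fact.mk ht.prime
  have hq1 : 1 ≤ Nat.card F := by rw [P.card]; omega
  have ht2 : t ≠ 2 := by
    have := ht.lt (by norm_num)
    omega
  have htp : ∀ i < 3, ¬ t ∣ Nat.card F ^ i + 1 := by
    intro i hi h
    have h1 : t ∣ Nat.card F ^ (2 * i) - 1 := by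
      have h2 : Nat.card F ^ (2 * i) - 1 = (Nat.card F ^ i + 1) * (Nat.card F ^ i - 1) := by
        have h3 := Nat.sq_sub_sq (Nat.card F ^ i) 1
        rw [one_pow, ← pow_mul, mul_comm i 2] at h3
        exact h3
      rw [h2]
      exact dvd_mul_of_dvd_left h _
    rw [ht.dvd_iff hq1] at h1
    interval_cases i
    · rw [pow_zero] at h
      exact ht2 ((Nat.prime_dvd_prime_iff_eq ht.prime Nat.prime_two).1 h)
    · omega
    · omega
  obtain ⟨U, _, _, _, e, Q, hU, het, hker⟩ := exists_elt (F := F) (t := t) ((ht.dvd_iff hq1 3).2 dvd_rfl)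
    (by
      have h := ht.dvd_iff hq1 1
      rw [pow_one] at h
      rw [h]
      norm_num)
    (by rw [ht.dvd_iff hq1 2]; norm_num) htp
  obtain ⟨φ, hφ⟩ := exists_iso (m := 6) P.alt P.nondeg P.dim (B' := hyp F U) hyp_alt hyp_nd (by
    rw [Module.finrank_prod, Subspace.dual_finrank_eq, hU])
  obtain ⟨z, hz⟩ : ∃ z : V ≃ₗ[F] V, z = (φ.trans (lev e)).trans φ.symm := ⟨_, rfl⟩
  have hzv : ∀ x, z x = φ.symm (lev e (φ x)) := fun x => by rw [hz]; rfl
  have hzI : z ∈ Isos B := by
    intro x y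
    rw [hzv, hzv, ← hφ, φ.apply_symm_apply, φ.apply_symm_apply, lev_mem e, hφ]
  have hzt : z ^ t = 1 := by
    have h1 : ∀ n : ℕ, ∀ x, (z ^ n) x = φ.symm ((lev e ^ n) (φ x)) := by
      intro n
      induction n with
      | zero => intro x; rw [pow_zero, pow_zero]; exact (φ.symm_apply_apply x).symm
      | succ n ih =>
        intro x
        rw [pow_succ, LinearEquiv.mul_apply, ih, hzv, φ.apply_symm_apply, pow_succ, LinearEquiv.mul_apply]
    apply LinearEquiv.ext
    intro x
    rw [h1, ← lev_pow, het, lev_one]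
    exact φ.symm_apply_apply x
  have hCt : (Nat.card C).factorization t = 0 := by
    apply Nat.factorization_eq_zero_of_not_dvd
    intro h
    obtain ⟨c, hc⟩ := exists_prime_orderOf_dvd_card' t h
    have h1 : (c : V ≃ₗ[F] V) ^ t = 1 := by
      rw [← Subgroup.coe_pow, ← hc, pow_orderOf_eq_one, Subgroup.coe_one]
    have h2 := hC c c.2 t ht h1
    have h3 : c = 1 := Subtype.ext h2
    rw [h3, orderOf_one] at hc
    exact ht.prime.one_lt.ne hc
  have hv := P.val t ht.prime ht2 htf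
  rw [hCt, add_zero] at hv
  obtain ⟨g, -, hg⟩ := exists_conj_mem P.leA hv hzI hzt
  have h5 := AExt.dvd_ker hA hg ht.prime (by rw [conj_pow, hzt, mul_one, mul_inv_cancel]) ht2 Q
  have h7 : ((g * z * g⁻¹ : V ≃ₗ[F] V) : End F V) =
      (((g⁻¹).trans φ).symm : (U × Dual F U) →ₗ[F] V) ∘ₗ (lev e : End F (U × Dual F U)) ∘ₗ
        (((g⁻¹).trans φ : V ≃ₗ[F] (U × Dual F U)) : V →ₗ[F] (U × Dual F U)) := by
    apply LinearMap.ext
    intro x
    change g (z (g⁻¹ x)) = (g⁻¹).symm (φ.symm (lev e (φ (g⁻¹ x))))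
    rw [hzv]
    rfl
  rw [h7, finrank_ker_conj, hker] at h5
  omega

end

end Cfsg.Agent.H150.Rs
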